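import Groth.Agent.RegImm10.ExtVanish
import Groth.Agent.Desc59.QEff.Glue
import Groth.Agent.Mero90.Frames

/-!
Endomorphisms of invertible modules are multiplications by functions; comparison maps determined along a section.
-/

set_option autoImplicit false
set_option backward.isDefEq.respectTransparency false
set_option backward.isDefEq.respectTransparency.types false

universe u

noncomputable section

open CategoryTheory Limits AlgebraicGeometry TopologicalSpace Opposite
open Groth.Agent.QC70 Groth.Agent.QCPull72 Groth.Agent.LimTop61 Groth.Agent.Var76.LineBundle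

namespace Groth.Agent.RigDesc25

open RegImm10.ExtVanish

variable {X Y : Scheme.{u}} {L M : X.Modules}

theorem smulEnd_one (L : X.Modules) : smulEnd (1 : Γ(X, ⊤)) L = 𝟙 L :=
  (smulEnd_ext fun W m => by
    rw [show resO X (le_top : W ≤ ⊤) (1 : Γ(X, ⊤)) = 1 from map_one _, one_smul]
    rfl).symm

theorem smulEnd_comp (a b : Γ(X, ⊤)) (L : X.Modules) : smulEnd a L ≫ smulEnd b L = smulEnd (b * a) L :=
  smulEnd_ext fun W m => by
    rw [show resO X (le_top : W ≤ ⊤) (b * a) = resO X le_top b * resO X le_top a from map_mul _ _ _, mul_smul]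
    rfl

theorem isIso_smulEnd {a : Γ(X, ⊤)} (ha : IsUnit a) (L : X.Modules) : IsIso (smulEnd a L) := by
  obtain ⟨v, rfl⟩ := ha
  exact ⟨smulEnd (↑v⁻¹) L, by rw [smulEnd_comp, Units.inv_mul, smulEnd_one],
    by rw [smulEnd_comp, Units.mul_inv, smulEnd_one]⟩

theorem smulEnd_injective (hL : PicF.IsInvertible L) {a b : Γ(X, ⊤)} (h : smulEnd a L = smulEnd b L) : a = b := by
  refine Var76.ZeroScheme.eq_of_locally (Coh.structureModule X) (U := ⊤) a b fun x _ => ?_
  obtain ⟨V, hxV, e, he⟩ := Mero90.exists_frame' hL x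
  refine ⟨V, le_top, hxV, (he V le_rfl).1 ?_⟩
  have h1 : (smulEnd a L).app V e = (smulEnd b L).app V e := by rw [h]
  rw [smulEnd_app, smulEnd_app] at h1
  show resO X (le_top : V ≤ ⊤) a • Var76.LineBundle.res L le_rfl e = resO X (le_top : V ≤ ⊤) b • Var76.LineBundle.res L le_rfl e
  rw [show Var76.LineBundle.res L (le_refl V) e = e from by simp [Var76.LineBundle.res]]
  exact h1

/-- Endomorphisms of an invertible module are multiplications by global functions. -/
theorem exists_smulEnd (hL : PicF.IsInvertible L) (φ : L ⟶ L) : ∃ c : Γ(X, ⊤), φ = smulEnd c L := by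
  choose V hxV e he using fun x => Mero90.exists_frame' hL x
  choose c hc using fun x => (he x (V x) le_rfl).2 (φ.app (V x) (e x))
  -- on each chart the map is multiplication by `c x`
  have key : ∀ (x : X) (W : X.Opens) (hW : W ≤ V x) (m : Γ(L, W)), φ.app W m = resO X hW (c x) • m := by
    intro x W hW m
    obtain ⟨a, ha⟩ := (he x W hW).2 m
    simp only at ha
    have hc' : φ.app W (Var76.LineBundle.res L hW (e x)) = resO X hW (c x) • Var76.LineBundle.res L hW (e x) := by
      have h1 := Mero90.app_res φ hW (e x)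
      rw [h1, ← hc x]
      simp [Var76.LineBundle.res]
    rw [← ha, Scheme.Modules.Hom.app_smul, hc', smul_comm]
  have hcomp : TopCat.Presheaf.IsCompatible X.presheaf V c := by
    intro x y
    refine (he x _ inf_le_left).1 ?_
    show resO X (inf_le_left : V x ⊓ V y ≤ V x) (c x) • _ = resO X (inf_le_right : V x ⊓ V y ≤ V y) (c y) • _
    rw [← key x, ← key y]
  have hcov : iSup V = ⊤ := top_le_iff.1 fun x _ => Opens.mem_iSup.2 ⟨x, hxV x⟩
  obtain ⟨g, hg, -⟩ := X.sheaf.existsUnique_gluing' V ⊤ (fun x => homOfLE le_top) hcov.ge c hcomp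
  refine ⟨g, smulEnd_ext fun W m => ?_⟩
  refine Var76.ZeroScheme.eq_of_locally L _ _ fun x hx => ?_
  refine ⟨W ⊓ V x, inf_le_left, ⟨hx, hxV x⟩, ?_⟩
  rw [← Mero90.app_res φ, key x _ inf_le_right]
  have hgx : resO X (le_top : W ⊓ V x ≤ ⊤) g = resO X (inf_le_right : W ⊓ V x ≤ V x) (c x) := by
    rw [← hg x]
    exact (Var76.ZeroScheme.fres_fres (le_top : V x ≤ ⊤) (inf_le_right : W ⊓ V x ≤ V x) g).symm
  rw [← hgx]
  simp only [Var76.LineBundle.res, Scheme.Modules.map_smul]
  exact congrArg (· • _) (Var76.ZeroScheme.fres_fres (le_top : W ≤ ⊤) (inf_le_left : W ⊓ V x ≤ W) g).symm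

/-- The inverse image of a multiplication. -/
theorem pullback_map_smulEnd (g : Y ⟶ X) (a : Γ(X, ⊤)) (L : X.Modules) :
    (Scheme.Modules.pullback g).map (smulEnd a L) =
      smulEnd (g.appTop a) ((Scheme.Modules.pullback g).obj L) := by
  refine Desc59.QEff.hom_ext_unitSec g fun U x => ?_
  rw [Desc59.QEff.pullback_map_unitSec, smulEnd_app, smulEnd_app, unitSec_smul]
  congr 1
  show (g.app U ≫ Y.presheaf.map (homOfLE (le_refl (g ⁻¹ᵁ U))).op).hom (X.presheaf.map (homOfLE le_top).op a) = _
  rw [ConcreteCategory.comp_apply]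
  show Y.presheaf.map _ (g.app U (X.presheaf.map (homOfLE (le_top : U ≤ ⊤)).op a)) = Y.presheaf.map (homOfLE le_top).op (g.app ⊤ a)
  rw [← ConcreteCategory.comp_apply, ← ConcreteCategory.comp_apply, Scheme.Hom.naturality_assoc,
    ← Functor.map_comp]
  rfl

variable {A B : X.Modules} (s : Y ⟶ X)

/-- Isomorphisms of invertible modules are determined by their restriction along `s`. -/
theorem eq_of_pullback_map_eq (hA : PicF.IsInvertible A) (hs : Function.Injective s.appTop) (ψ ψ' : A ⟶ B)
    [IsIso ψ] [IsIso ψ'] (h : (Scheme.Modules.pullback s).map ψ = (Scheme.Modules.pullback s).map ψ') : ψ = ψ' := by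
  obtain ⟨c, hc⟩ := exists_smulEnd hA (ψ ≫ inv ψ')
  have h1 : smulEnd (s.appTop c) ((Scheme.Modules.pullback s).obj A) =
      smulEnd (1 : Γ(Y, ⊤)) ((Scheme.Modules.pullback s).obj A) := by
    rw [smulEnd_one, ← pullback_map_smulEnd, ← hc, Functor.map_comp, h, ← Functor.map_comp,
      IsIso.hom_inv_id, CategoryTheory.Functor.map_id]
  have h2 : c = 1 := hs ((smulEnd_injective (Amp73.isInvertible_pullback s hA) h1).trans (map_one _).symm)
  rw [h2, smulEnd_one] at hc
  rw [← Category.comp_id ψ, ← IsIso.inv_hom_id ψ', ← Category.assoc, hc, Category.id_comp]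

/-- An isomorphism of inverse images along `s` extends, once some isomorphism exists. -/
theorem exists_iso_extend (hA : PicF.IsInvertible A) (hs : Function.Bijective s.appTop) (ψ₀ : A ≅ B)
    (β : (Scheme.Modules.pullback s).obj A ≅ (Scheme.Modules.pullback s).obj B) :
    ∃ ψ : A ≅ B, (Scheme.Modules.pullback s).map ψ.hom = β.hom := by
  obtain ⟨v, hv⟩ := exists_smulEnd (Amp73.isInvertible_pullback s hA)
    (β.hom ≫ (Scheme.Modules.pullback s).map ψ₀.inv)
  obtain ⟨w, hw⟩ := exists_smulEnd (Amp73.isInvertible_pullback s hA)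
    ((Scheme.Modules.pullback s).map ψ₀.hom ≫ β.inv)
  obtain ⟨c, rfl⟩ := hs.2 v
  obtain ⟨d, rfl⟩ := hs.2 w
  have hdc : d * c = 1 := hs.1 (smulEnd_injective (Amp73.isInvertible_pullback s hA) (by
    rw [map_mul, map_one, smulEnd_one, ← smulEnd_comp, ← hv, ← hw, Category.assoc, ← Functor.map_comp_assoc,
      ψ₀.inv_hom_id, CategoryTheory.Functor.map_id, Category.id_comp, Iso.hom_inv_id]))
  haveI := isIso_smulEnd (IsUnit.of_mul_eq_one _ ((mul_comm c d).trans hdc)) A
  refine ⟨asIso (smulEnd c A) ≪≫ ψ₀, ?_⟩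
  rw [Iso.trans_hom, asIso_hom, Functor.map_comp, pullback_map_smulEnd, ← hv, Category.assoc, ← Functor.map_comp,
    ψ₀.inv_hom_id, CategoryTheory.Functor.map_id, Category.comp_id]

end Groth.Agent.RigDesc25
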