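import Groth.Agent.RigDesc25.Abstract
import Groth.Agent.RigDesc25.Scalar
import Groth.Agent.Desc59.QCohFF
import Groth.Agent.Amp73.Pullback

/-!
Descent of invertible modules which are normalised along a section.
-/

set_option autoImplicit false
set_option backward.isDefEq.respectTransparency false
set_option backward.isDefEq.respectTransparency.types false

universe u

noncomputable section

open CategoryTheory Limits AlgebraicGeometry Opposite
open CategoryTheory.Pseudofunctor CategoryTheory.Pseudofunctor.LocallyDiscreteOpToCat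

namespace Groth.Agent.RigDesc25

variable {X X' T U : Scheme.{u}}

/-- The chosen fibre product of two copies. -/
abbrev sqOf (p : X' ⟶ X) : ChosenPullback p p where
  pullback := pullback p p
  p₁ := pullback.fst p p
  p₂ := pullback.snd p p
  condition := pullback.condition
  isLimit := pullbackIsPullback p p

/-- The chosen fibre product of three copies. -/
abbrev sq₃Of (p : X' ⟶ X) : ChosenPullback₃ (sqOf p) (sqOf p) (sqOf p) where
  chosenPullback :=
    { pullback := pullback (pullback.snd p p) (pullback.fst p p)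
      p₁ := pullback.fst _ _
      p₂ := pullback.snd _ _
      condition := pullback.condition
      isLimit := pullbackIsPullback _ _ }
  l :=
    { f := pullback.lift (pullback.fst (pullback.snd p p) (pullback.fst p p) ≫ pullback.fst p p)
        (pullback.snd (pullback.snd p p) (pullback.fst p p) ≫ pullback.snd p p)
        (by simp only [Category.assoc]
            rw [pullback.condition, ← Category.assoc, pullback.condition, Category.assoc, pullback.condition])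
      f_p₁ := pullback.lift_fst _ _ _
      f_p₂ := pullback.lift_snd _ _ _
      f_p := pullback.lift_fst_assoc _ _ _ _ |>.trans (Category.assoc _ _ _) }

/-- The inverse image functor of the pseudofunctor of modules. -/
abbrev pb {X Y : Scheme.{u}} (g : Y ⟶ X) := (Desc.modPF.{u}.map g.op.toLoc).toFunctor

theorem pb_isInvertible {X Y : Scheme.{u}} (g : Y ⟶ X) (L : X.Modules) (hL : PicF.IsInvertible L) :
    PicF.IsInvertible (Y := Y) ((pb g).obj L) :=
  Amp73.isInvertible_pullback g hL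

theorem pb_eq {X Y : Scheme.{u}} (g : Y ⟶ X) {A B : X.Modules} (hA : PicF.IsInvertible A)
    (hg : Function.Injective g.appTop) (ψ ψ' : A ⟶ B) [IsIso ψ] [IsIso ψ']
    (h : (pb g).map ψ = (pb g).map ψ') : ψ = ψ' :=
  eq_of_pullback_map_eq g hA hg ψ ψ' h

theorem pb_extend {X Y : Scheme.{u}} (g : Y ⟶ X) {A B : X.Modules} (hA : PicF.IsInvertible A)
    (hg : Function.Bijective g.appTop) (ψ₀ : A ≅ B) (β : (pb g).obj A ≅ (pb g).obj B) :
    ∃ ψ : A ≅ B, (pb g).map ψ.hom = β.hom :=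
  exists_iso_extend g hA hg ψ₀ β

theorem pb_unit {U T X' : Scheme.{u}} (u : U ⟶ T) (σ' : U ⟶ X') (L : X'.Modules)
    (hr : Nonempty ((Scheme.Modules.pullback σ').obj L ≅ Coh.structureModule U)) :
    Nonempty ((pb σ').obj L ≅ (pb (𝟙 U)).obj
      (((Desc.modPF.{u}.toDescentData (fun _ : PUnit.{u + 1} => u)).obj (Coh.structureModule T)).obj ⟨⟩)) :=
  hr.map fun r₀ => r₀ ≪≫ (PicLoc.pullbackStructureIso u).symm ≪≫ ((Scheme.Modules.pullbackId U).app _).symm

variable (p : X' ⟶ X) (u : U ⟶ T) (σ : T ⟶ X) (σ' : U ⟶ X') (hσ : σ' ≫ p = u ≫ σ)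

/-- The section on double products. -/
def sec₂ : pullback u u ⟶ pullback p p :=
  pullback.lift (pullback.fst u u ≫ σ') (pullback.snd u u ≫ σ')
    (by rw [Category.assoc, Category.assoc, hσ, pullback.condition_assoc])

/-- The section on triple products. -/
def sec₃ : pullback (pullback.snd u u) (pullback.fst u u) ⟶ pullback (pullback.snd p p) (pullback.fst p p) :=
  pullback.lift (pullback.fst _ _ ≫ sec₂ p u σ σ' hσ) (pullback.snd _ _ ≫ sec₂ p u σ σ' hσ) (by
    simp only [sec₂, Category.assoc, pullback.lift_fst, pullback.lift_snd]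
    rw [pullback.condition_assoc])

/-- An invertible module on `X'` with isomorphic inverse images to the double product, trivial along the section,
descends to a quasi-coherent module on `X`. -/
theorem exists_descend [Flat p]
    [QuasiCompactCover (⟨PUnit.{u + 1}, fun _ => X', fun _ => p⟩ : PreZeroHypercover.{u} X)]
    (h₂ : Function.Bijective (sec₂ p u σ σ' hσ).appTop) (h₃ : Function.Injective (sec₃ p u σ σ' hσ).appTop)
    (L : X'.Modules) (hL : PicF.IsInvertible L)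
    (hr : Nonempty ((Scheme.Modules.pullback σ').obj L ≅ Coh.structureModule U))
    (hiso : Nonempty ((Scheme.Modules.pullback (pullback.fst p p)).obj L ≅
      (Scheme.Modules.pullback (pullback.snd p p)).obj L)) :
    ∃ M : X.Modules, M.IsQuasicoherent ∧ Nonempty ((Scheme.Modules.pullback p).obj M ≅ L) := by
  obtain ⟨ψ₀⟩ := hiso
  let E := (Desc.modPF.{u}.toDescentData (fun _ : PUnit.{u + 1} => u)).obj (Coh.structureModule T)
  obtain ⟨r⟩ := pb_unit u σ' L hr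
  haveI : IsIso (cj r (sqOf u).p₁ (sqOf u).p₂ (E.hom (sqOf u).p (sqOf u).p₁ (sqOf u).p₂ (sqOf u).hp₁ (sqOf u).hp₂)
      ((sqOf u).p₁ ≫ σ') ((sqOf u).p₂ ≫ σ') rfl rfl) := by
    haveI := isIso_pullHom (F := Desc.modPF.{u}) r.hom (sqOf u).p₁ _ _ rfl (Category.comp_id (sqOf u).p₁)
    haveI := isIso_pullHom (F := Desc.modPF.{u}) r.inv (sqOf u).p₂ _ _ (Category.comp_id (sqOf u).p₂) rfl
    unfold cj
    infer_instance
  let s := sec₂ p u σ σ' hσ
  have hs₁ : s ≫ (sqOf p).p₁ = (sqOf u).p₁ ≫ σ' := pullback.lift_fst _ _ _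
  have hs₂ : s ≫ (sqOf p).p₂ = (sqOf u).p₂ ≫ σ' := pullback.lift_snd _ _ _
  let m₁ := (Desc.modPF.{u}.mapComp' (sqOf p).p₁.op.toLoc s.op.toLoc ((sqOf u).p₁ ≫ σ').op.toLoc
    (by rw [← Quiver.Hom.comp_toLoc, ← op_comp, hs₁]))
  let m₂ := (Desc.modPF.{u}.mapComp' (sqOf p).p₂.op.toLoc s.op.toLoc ((sqOf u).p₂ ≫ σ').op.toLoc
    (by rw [← Quiver.Hom.comp_toLoc, ← op_comp, hs₂]))
  let β := (Cat.Hom.toNatIso m₁).symm.app L ≪≫
    asIso (cj r (sqOf u).p₁ (sqOf u).p₂ (E.hom (sqOf u).p (sqOf u).p₁ (sqOf u).p₂ (sqOf u).hp₁ (sqOf u).hp₂)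
      ((sqOf u).p₁ ≫ σ') ((sqOf u).p₂ ≫ σ') rfl rfl) ≪≫ (Cat.Hom.toNatIso m₂).app L
  obtain ⟨φ, hφ⟩ := pb_extend s (A := (pb (sqOf p).p₁).obj L) (B := (pb (sqOf p).p₂).obj L)
    (pb_isInvertible _ L hL) h₂ ψ₀ β
  obtain ⟨D, ⟨eD⟩⟩ := exists_descentData (F := Desc.modPF.{u}) (sqOf p) (sq₃Of p) (sqOf u) (sq₃Of u) L E σ' r φ
    s hs₁ hs₂
    (pullHom_eq_of_map_eq (F := Desc.modPF.{u}) φ.hom s _ _ hs₁ hs₂ _ hφ)
    (sec₃ p u σ σ' hσ)
    (by
      show sec₃ p u σ σ' hσ ≫ pullback.fst _ _ ≫ pullback.fst p p = (pullback.fst _ _ ≫ pullback.fst u u) ≫ σ'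
      simp [sec₃, sec₂])
    (by
      show sec₃ p u σ σ' hσ ≫ (pullback.fst _ _ ≫ pullback.snd p p) = (pullback.fst _ _ ≫ pullback.snd u u) ≫ σ'
      simp [sec₃, sec₂])
    (by
      show sec₃ p u σ σ' hσ ≫ pullback.snd _ _ ≫ pullback.snd p p = (pullback.snd _ _ ≫ pullback.snd u u) ≫ σ'
      simp [sec₃, sec₂])
    (fun ψ ψ' hψ hψ' h => by
      haveI := hψ
      haveI := hψ'
      exact pb_eq (sec₃ p u σ σ' hσ) (pb_isInvertible _ L hL) h₃ ψ ψ' h)
  haveI : ∀ i : PUnit.{u + 1}, (Desc59.QEff.Dm D i).IsQuasicoherent := fun _ =>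
    Mero90.isQCoh_of_isInvertible (EGA73.isInvertible_of_iso eD.symm hL)
  haveI : ∀ i : PUnit.{u + 1}, Flat ((fun _ : PUnit.{u + 1} => p) i) := fun _ => ‹_›
  obtain ⟨M, hM, ⟨e⟩⟩ := Desc59.QEff.effective D
  exact ⟨M, hM, ⟨⟨e.hom.hom ⟨⟩, e.inv.hom ⟨⟩, by rw [← DescentData.comp_hom, e.hom_inv_id]; rfl,
    by rw [← DescentData.comp_hom, e.inv_hom_id]; rfl⟩ ≪≫ eD⟩⟩

/-- Invertible modules isomorphic after the covering, with isomorphic restrictions along the section, are isomorphic. -/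
theorem nonempty_iso_descend [Flat p]
    [QuasiCompactCover (⟨PUnit.{u + 1}, fun _ => X', fun _ => p⟩ : PreZeroHypercover.{u} X)]
    (h₁ : Function.Bijective σ'.appTop) (h₂ : Function.Injective (sec₂ p u σ σ' hσ).appTop)
    (M M' : X.Modules) (hM : PicF.IsInvertible M) (hM' : PicF.IsInvertible M')
    (α : Nonempty ((Scheme.Modules.pullback σ).obj M ≅ (Scheme.Modules.pullback σ).obj M'))
    (ψ₀ : Nonempty ((Scheme.Modules.pullback p).obj M ≅ (Scheme.Modules.pullback p).obj M')) :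
    Nonempty (M ≅ M') := by
  obtain ⟨α⟩ := α
  obtain ⟨ψ₀⟩ := ψ₀
  let α' : (pb σ).obj M ≅ (pb σ).obj M' := α
  let χ := pullHom (F := Desc.modPF.{u}) α'.hom u (u ≫ σ) (u ≫ σ) rfl rfl
  haveI : IsIso χ := isIso_pullHom (F := Desc.modPF.{u}) α'.hom u (u ≫ σ) (u ≫ σ) rfl rfl
  let m := fun (N : X.Modules) => (Cat.Hom.toNatIso (Desc.modPF.{u}.mapComp' p.op.toLoc σ'.op.toLoc (u ≫ σ).op.toLoc
    (by rw [← Quiver.Hom.comp_toLoc, ← op_comp, hσ]))).app N
  obtain ⟨ψ, hψ⟩ := pb_extend σ' (A := (pb p).obj M) (B := (pb p).obj M') (pb_isInvertible p M hM) h₁ ψ₀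
    ((m M).symm ≪≫ asIso χ ≪≫ m M')
  have hψ' := pullHom_eq_of_map_eq (F := Desc.modPF.{u}) ψ.hom σ' (u ≫ σ) (u ≫ σ) hσ hσ χ hψ
  have h := pullHom_eq_of_rigid (F := Desc.modPF.{u}) (sqOf p) (sqOf u) ψ.hom σ σ' hσ α'.hom hψ'
    (sec₂ p u σ σ' hσ) (pullback.lift_fst _ _ _) (pullback.lift_snd _ _ _) (fun a b ha hb he => by
      haveI := ha
      haveI := hb
      exact pb_eq (sec₂ p u σ σ' hσ) (pb_isInvertible _ M hM) h₂ a b he)
  obtain ⟨Φ, hΦ⟩ := exists_hom_ofObj (F := Desc.modPF.{u}) (sqOf p) ψ.hom h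
  have h' : pullHom (F := Desc.modPF.{u}) ψ.inv (sqOf p).p₁ (sqOf p).p (sqOf p).p (sqOf p).hp₁ (sqOf p).hp₁ =
      pullHom (F := Desc.modPF.{u}) ψ.inv (sqOf p).p₂ (sqOf p).p (sqOf p).p (sqOf p).hp₂ (sqOf p).hp₂ := by
    haveI := isIso_pullHom (F := Desc.modPF.{u}) ψ.hom (sqOf p).p₁ (sqOf p).p (sqOf p).p (sqOf p).hp₁ (sqOf p).hp₁
    rw [← cancel_epi (pullHom (F := Desc.modPF.{u}) ψ.hom (sqOf p).p₁ (sqOf p).p (sqOf p).p (sqOf p).hp₁ (sqOf p).hp₁),
      pullHom_comp, h, pullHom_comp, ψ.hom_inv_id]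
    exact (pullHom_id' _ _ _).trans (pullHom_id' _ _ _).symm
  obtain ⟨Φ', hΦ'⟩ := exists_hom_ofObj (F := Desc.modPF.{u}) (sqOf p) ψ.inv h'
  haveI : M.IsQuasicoherent := Mero90.isQCoh_of_isInvertible hM
  haveI : M'.IsQuasicoherent := Mero90.isQCoh_of_isInvertible hM'
  haveI : ∀ i : PUnit.{u + 1}, Flat ((fun _ : PUnit.{u + 1} => p) i) := fun _ => ‹_›
  obtain ⟨a, rfl⟩ := (Desc59.QCohFF.bijective_map (fun _ : PUnit.{u + 1} => p) M M').2 Φ
  obtain ⟨b, rfl⟩ := (Desc59.QCohFF.bijective_map (fun _ : PUnit.{u + 1} => p) M' M).2 Φ'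
  refine ⟨⟨a, b, (Desc59.QCohFF.bijective_map (fun _ : PUnit.{u + 1} => p) M M).1 ?_,
    (Desc59.QCohFF.bijective_map (fun _ : PUnit.{u + 1} => p) M' M').1 ?_⟩⟩
  · rw [Functor.map_comp, CategoryTheory.Functor.map_id]
    ext ⟨⟩
    erw [DescentData.comp_hom, hΦ, hΦ', ψ.hom_inv_id]
    rfl
  · rw [Functor.map_comp, CategoryTheory.Functor.map_id]
    ext ⟨⟩
    erw [DescentData.comp_hom, hΦ, hΦ', ψ.inv_hom_id]
    rfl

end Groth.Agent.RigDesc25
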