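import Groth.Prelude.Def_AbDual
import Groth.Agent.RigDesc25.Descend
import Groth.Agent.Desc59.ModDesc
import Groth.Agent.LimTop61.LocFreeStage
import Groth.Agent.An92.Ample.Inverse
import Groth.Agent.Amp73.PullTensor
import Groth.Agent.EGA73.Tensor

/-!
Rigidified classes of invertible modules on base changes of `X/S`: products of base changes, descent along coverings.
-/

set_option autoImplicit false
set_option backward.isDefEq.respectTransparency false
set_option backward.isDefEq.respectTransparency.types false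

universe u

noncomputable section

open CategoryTheory Limits AlgebraicGeometry Opposite

namespace Groth.Agent.RigDesc25

theorem nonempty_iso_of_cl {Y : Scheme.{u}} {L L' : Y.Modules} (h : PicF.cl L = PicF.cl L') : Nonempty (L ≅ L') := by
  have e := Quot.eqvGen_exact h
  clear h
  induction e with
  | rel _ _ h => exact h
  | refl _ => exact ⟨Iso.refl _⟩
  | symm _ _ _ h => exact h.map Iso.symm
  | trans _ _ _ _ _ h h' => exact h.elim fun a => h'.map fun b => a ≪≫ b

theorem cl_congr {Y : Scheme.{u}} {L L' : Y.Modules} (h : Nonempty (L ≅ L')) : PicF.cl L = PicF.cl L' :=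
  Quot.sound h

/-- A flat surjective morphism locally of finite presentation is a quasi-compact covering. -/
theorem qcCover_of_fppf {X' X : Scheme.{u}} (p : X' ⟶ X) [Flat p] [LocallyOfFinitePresentation p] [Surjective p] :
    QuasiCompactCover (⟨PUnit.{u + 1}, fun _ => X', fun _ => p⟩ : PreZeroHypercover.{u} X) where
  isCompactOpenCovered_of_isAffineOpen {U} hU := .of_isOpenMap
    (fun _ => p.continuous) (fun _ => p.isOpenMap) (fun x _ => ⟨⟨⟩, p.surjective x⟩) U.2 hU.isCompact

/-- Invertibility descends along fpqc coverings. -/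
theorem isInvertible_descend {X' X : Scheme.{u}} (p : X' ⟶ X) [Flat p] [Surjective p]
    [QuasiCompactCover (⟨PUnit.{u + 1}, fun _ => X', fun _ => p⟩ : PreZeroHypercover.{u} X)]
    (M : X.Modules) [M.IsQuasicoherent] (h : PicF.IsInvertible ((Scheme.Modules.pullback p).obj M)) :
    PicF.IsInvertible M := by
  have h1 := Mero90.isFinLocFreeOfRank_of_isInvertible h
  rw [LimTop61.isFinLocFreeOfRank_iff] at h1
  have hM : FlatMod.IsFinLocFree M :=
    Desc59.ModDesc.isFinLocFree_of_pullback (fun _ : PUnit.{u + 1} => p) (fun _ => ‹_›) M fun _ => h1.1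
  have h2 : FlatMod.IsFinLocFreeOfRank 1 M := LimTop61.isFinLocFreeOfRank_iff.mpr ⟨hM, fun x => by
    obtain ⟨x', rfl⟩ := p.surjective x
    exact (LimTop61.stalkRk_pullback p hM x').symm.trans (h1.2 x')⟩
  intro x
  obtain ⟨U, hx, ⟨φ⟩⟩ := h2 x
  exact ⟨U, hx, ⟨φ ≪≫ coproductUniqueIso fun _ : Fin 1 => Coh.structureModule (↑U : Scheme.{u})⟩⟩

/-- Products of two base changes of a morphism. -/
theorem isPullback_prod {Z Z₁ Z₂ B W₁ W₂ : Scheme.{u}} (q : Z ⟶ B)
    {a₁ : Z₁ ⟶ Z} {q₁ : Z₁ ⟶ W₁} {w₁ : W₁ ⟶ B} (h₁ : IsPullback a₁ q₁ q w₁)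
    {a₂ : Z₂ ⟶ Z} {q₂ : Z₂ ⟶ W₂} {w₂ : W₂ ⟶ B} (h₂ : IsPullback a₂ q₂ q w₂)
    (Q : pullback a₁ a₂ ⟶ pullback w₁ w₂) (hQ₁ : Q ≫ pullback.fst w₁ w₂ = pullback.fst a₁ a₂ ≫ q₁)
    (hQ₂ : Q ≫ pullback.snd w₁ w₂ = pullback.snd a₁ a₂ ≫ q₂) :
    IsPullback (pullback.fst a₁ a₂) Q q₁ (pullback.fst w₁ w₂) := by
  have h := (IsPullback.of_hasPullback a₁ a₂).paste_vert h₂
  rw [h₁.w] at h
  rw [← hQ₂] at h
  exact IsPullback.of_bot h hQ₁.symm (IsPullback.of_hasPullback w₁ w₂)

variable {X S : Scheme.{u}} (f : X ⟶ S) (σ : S ⟶ X) (hσ : σ ≫ f = 𝟙 S)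

/-- The projection of a base change of `X/S` is bijective on global functions. -/
theorem bijective_appTop (ha : ∀ (T : Over S) (U : T.left.Opens), IsIso ((PicF.XTproj f T).app U))
    {Z W : Scheme.{u}} {a : Z ⟶ X} {q : Z ⟶ W} {g : W ⟶ S} (h : IsPullback a q f g) :
    Function.Bijective q.appTop := by
  have e : h.isoPullback.hom ≫ PicF.XTproj f (Over.mk g) = q := h.isoPullback_hom_snd
  rw [← e, Scheme.Hom.comp_appTop]
  haveI : IsIso ((PicF.XTproj f (Over.mk g)).appTop) := ha (Over.mk g) ⊤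
  exact ConcreteCategory.bijective_of_isIso _

theorem bijective_appTop_section {Z W : Scheme.{u}} {q : Z ⟶ W} {s : W ⟶ Z} (hq : Function.Bijective q.appTop)
    (hs : s ≫ q = 𝟙 W) : Function.Bijective s.appTop := by
  have key : ∀ w, s.appTop (q.appTop w) = w := fun w => by
    have h1 := ConcreteCategory.congr_hom (congrArg (fun g : W ⟶ W => g.appTop) hs) w
    rw [Scheme.Hom.comp_appTop, Scheme.Hom.id_appTop] at h1
    exact h1
  refine ⟨fun a b h => ?_, fun w => ⟨q.appTop w, key w⟩⟩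
  obtain ⟨a, rfl⟩ := hq.2 a
  obtain ⟨b, rfl⟩ := hq.2 b
  rw [key, key] at h
  rw [h]

theorem isPullback_XTmap {T T' : Over S} (g : T' ⟶ T) :
    IsPullback (PicF.XTmap f g) (PicF.XTproj f T') (PicF.XTproj f T) g.left := by
  refine IsPullback.of_right ?_ (pullback.lift_snd _ _ _) (IsPullback.of_hasPullback f T.hom)
  rw [show PicF.XTmap f g ≫ pullback.fst f T.hom = pullback.fst f T'.hom from
    (pullback.lift_fst _ _ _).trans (Category.comp_id _), Over.w g]
  exact IsPullback.of_hasPullback f T'.hom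

theorem secT_comp {T T' : Over S} (g : T' ⟶ T) :
    PicF.secT f σ hσ T' ≫ PicF.XTmap f g = g.left ≫ PicF.secT f σ hσ T := by
  refine pullback.hom_ext ?_ ?_
  · simp [PicF.secT, PicF.XTmap]
  · simp [PicF.secT, PicF.XTmap]
    exact Category.id_comp _

theorem secT_snd (T : Over S) : PicF.secT f σ hσ T ≫ PicF.XTproj f T = 𝟙 _ := pullback.lift_snd _ _ _

/-- The bundle of hypotheses for descending along a covering of the base. -/
theorem rig_appTop (ha : ∀ (T : Over S) (U : T.left.Opens), IsIso ((PicF.XTproj f T).app U)) (T : Over S)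
    {U : Scheme.{u}} (u : U ⟶ T.left) :
    Function.Bijective (PicF.secT f σ hσ (AbDual.ovr T u)).appTop ∧
      Function.Bijective (sec₂ (PicF.XTmap f (AbDual.ovrHom T u)) u (PicF.secT f σ hσ T)
        (PicF.secT f σ hσ (AbDual.ovr T u)) (secT_comp f σ hσ (AbDual.ovrHom T u))).appTop ∧
      Function.Bijective (sec₃ (PicF.XTmap f (AbDual.ovrHom T u)) u (PicF.secT f σ hσ T)
        (PicF.secT f σ hσ (AbDual.ovr T u)) (secT_comp f σ hσ (AbDual.ovrHom T u))).appTop := by
  let qT := PicF.XTproj f T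
  let qU := PicF.XTproj f (AbDual.ovr T u)
  let p := PicF.XTmap f (AbDual.ovrHom T u)
  let σ' := PicF.secT f σ hσ (AbDual.ovr T u)
  have hA : IsPullback p qU qT u := isPullback_XTmap f (AbDual.ovrHom T u)
  have hUf : IsPullback (pullback.fst f (AbDual.ovr T u).hom) qU f (AbDual.ovr T u).hom := IsPullback.of_hasPullback _ _
  have hU := bijective_appTop f ha hUf
  refine ⟨bijective_appTop_section hU (secT_snd f σ hσ _), ?_⟩
  let Q : pullback p p ⟶ pullback u u := pullback.map p p u u qU qU qT hA.w hA.w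
  have hQ : IsPullback (pullback.fst p p) Q qU (pullback.fst u u) :=
    isPullback_prod qT hA hA Q (pullback.lift_fst _ _ _) (pullback.lift_snd _ _ _)
  have hQ' : IsPullback (pullback.snd p p) Q qU (pullback.snd u u) := by
    let θ := pullbackSymmetry p p
    let η := pullbackSymmetry u u
    refine hQ.of_iso θ (Iso.refl _) η (Iso.refl _) ?_ ?_ ?_ ?_
    · simp [θ]
    · refine pullback.hom_ext ?_ ?_ <;> simp [θ, η, Q]
    · simp
    · simp [η]
  let s₂ := sec₂ p u (PicF.secT f σ hσ T) σ' (secT_comp f σ hσ (AbDual.ovrHom T u))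
  have hs₂ : s₂ ≫ Q = 𝟙 _ := by
    refine pullback.hom_ext ?_ ?_
    · simp [s₂, sec₂, Q, reassoc_of% secT_snd f σ hσ (AbDual.ovr T u), qU, σ', secT_snd]
    · simp [s₂, sec₂, Q, qU, σ', secT_snd]
  refine ⟨bijective_appTop_section (bijective_appTop f ha (hQ.paste_horiz hUf)) hs₂, ?_⟩
  let Q₃ : pullback (pullback.snd p p) (pullback.fst p p) ⟶ pullback (pullback.snd u u) (pullback.fst u u) :=
    pullback.map _ _ _ _ Q Q qU hQ'.w hQ.w
  have hQ₃ : IsPullback (pullback.fst (pullback.snd p p) (pullback.fst p p)) Q₃ Q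
      (pullback.fst (pullback.snd u u) (pullback.fst u u)) :=
    isPullback_prod qU hQ' hQ Q₃ (pullback.lift_fst _ _ _) (pullback.lift_snd _ _ _)
  refine bijective_appTop_section (bijective_appTop f ha (hQ₃.paste_horiz (hQ.paste_horiz hUf))) ?_
  refine pullback.hom_ext ?_ ?_
  · show (sec₃ _ _ _ _ _ ≫ Q₃) ≫ pullback.fst _ _ = 𝟙 _ ≫ pullback.fst _ _
    simp only [sec₃, Q₃, Category.assoc, pullback.lift_fst, pullback.lift_fst_assoc, Category.id_comp]
    exact (congrArg (pullback.fst _ _ ≫ ·) hs₂).trans (Category.comp_id _)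
  · show (sec₃ _ _ _ _ _ ≫ Q₃) ≫ pullback.snd _ _ = 𝟙 _ ≫ pullback.snd _ _
    simp only [sec₃, Q₃, Category.assoc, pullback.lift_snd, pullback.lift_snd_assoc, Category.id_comp]
    exact (congrArg (pullback.snd _ _ ≫ ·) hs₂).trans (Category.comp_id _)

end Groth.Agent.RigDesc25
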