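import Mathlib.CategoryTheory.Sites.Descent.DescentDataPrime

/-!
Descent data from isomorphisms normalised along a section (rigidified descent), for any pseudofunctor.
-/

set_option autoImplicit false
set_option backward.isDefEq.respectTransparency false
set_option backward.isDefEq.respectTransparency.types false
set_option backward.defeqAttrib.useBackward true

universe w v u v' u'

noncomputable section

namespace Groth.Agent.RigDesc25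

open CategoryTheory CategoryTheory.Limits Opposite
open CategoryTheory.Pseudofunctor CategoryTheory.Pseudofunctor.LocallyDiscreteOpToCat

variable {C : Type u} [Category.{v} C] {F : Pseudofunctor (LocallyDiscrete Cᵒᵖ) Cat.{v', u'}}

section PullHom

variable {X₁ X₂ X₃ : C} {M₁ : F.obj (.mk (op X₁))} {M₂ : F.obj (.mk (op X₂))} {M₃ : F.obj (.mk (op X₃))}
  {Y : C} {f₁ : Y ⟶ X₁} {f₂ : Y ⟶ X₂} {f₃ : Y ⟶ X₃}

theorem pullHom_comp (φ : (F.map f₁.op.toLoc).toFunctor.obj M₁ ⟶ (F.map f₂.op.toLoc).toFunctor.obj M₂)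
    (ψ : (F.map f₂.op.toLoc).toFunctor.obj M₂ ⟶ (F.map f₃.op.toLoc).toFunctor.obj M₃)
    {Y' : C} (g : Y' ⟶ Y) (a : Y' ⟶ X₁) (b : Y' ⟶ X₂) (c : Y' ⟶ X₃)
    (ha : g ≫ f₁ = a) (hb : g ≫ f₂ = b) (hc : g ≫ f₃ = c) :
    pullHom φ g a b ha hb ≫ pullHom ψ g b c hb hc = pullHom (φ ≫ ψ) g a c ha hc := by
  simp [pullHom, Functor.map_comp, ← Cat.Hom₂.comp_app, ← reassoc_of% Cat.Hom₂.comp_app]

theorem pullHom_id' {Y' : C} (g : Y' ⟶ Y) (a : Y' ⟶ X₁) (ha : g ≫ f₁ = a) :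
    pullHom (𝟙 ((F.map f₁.op.toLoc).toFunctor.obj M₁)) g a a ha ha = 𝟙 _ := by
  simp [pullHom, ← Cat.Hom₂.comp_app]

theorem pullHom_pullHom'' (φ : (F.map f₁.op.toLoc).toFunctor.obj M₁ ⟶ (F.map f₂.op.toLoc).toFunctor.obj M₂)
    {Y' Y'' : C} (g : Y' ⟶ Y) (g' : Y'' ⟶ Y') (a : Y' ⟶ X₁) (b : Y' ⟶ X₂) (a' : Y'' ⟶ X₁) (b' : Y'' ⟶ X₂)
    (ha : g ≫ f₁ = a) (hb : g ≫ f₂ = b) (ha' : g' ≫ a = a') (hb' : g' ≫ b = b') :
    pullHom (pullHom φ g a b ha hb) g' a' b' ha' hb' =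
      pullHom φ (g' ≫ g) a' b' (by rw [Category.assoc, ha, ha']) (by rw [Category.assoc, hb, hb']) := by
  dsimp [pullHom]
  simp only [Functor.map_comp, Category.assoc]
  rw [F.mapComp'₀₂₃_hom_comp_mapComp'_hom_whiskerRight_app_assoc
      f₁.op.toLoc g.op.toLoc g'.op.toLoc a.op.toLoc (g' ≫ g).op.toLoc a'.op.toLoc
      (by rw [← Quiver.Hom.comp_toLoc, ← op_comp, ha]) rfl (by cat_disch),
    F.mapComp'_inv_whiskerRight_mapComp'₀₂₃_inv_app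
      f₂.op.toLoc g.op.toLoc g'.op.toLoc b.op.toLoc (g' ≫ g).op.toLoc b'.op.toLoc
      (by rw [← Quiver.Hom.comp_toLoc, ← op_comp, hb]) rfl (by cat_disch)]
  simp

theorem isIso_pullHom (φ : (F.map f₁.op.toLoc).toFunctor.obj M₁ ⟶ (F.map f₂.op.toLoc).toFunctor.obj M₂)
    [IsIso φ] {Y' : C} (g : Y' ⟶ Y) (a : Y' ⟶ X₁) (b : Y' ⟶ X₂) (ha : g ≫ f₁ = a) (hb : g ≫ f₂ = b) :
    IsIso (pullHom φ g a b ha hb) :=
  ⟨pullHom (inv φ) g b a hb ha, by rw [pullHom_comp, IsIso.hom_inv_id, pullHom_id'],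
    by rw [pullHom_comp, IsIso.inv_hom_id, pullHom_id']⟩

theorem map_eq_map_of_pullHom_eq
    (φ φ' : (F.map f₁.op.toLoc).toFunctor.obj M₁ ⟶ (F.map f₂.op.toLoc).toFunctor.obj M₂)
    {Y' : C} (g : Y' ⟶ Y) (a : Y' ⟶ X₁) (b : Y' ⟶ X₂) (ha : g ≫ f₁ = a) (hb : g ≫ f₂ = b)
    (h : pullHom φ g a b ha hb = pullHom φ' g a b ha hb) :
    (F.map g.op.toLoc).toFunctor.map φ = (F.map g.op.toLoc).toFunctor.map φ' := by
  rw [map_eq_pullHom φ g a b ha hb, map_eq_pullHom φ' g a b ha hb, h]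

theorem pullHom_eq_of_map_eq
    (φ : (F.map f₁.op.toLoc).toFunctor.obj M₁ ⟶ (F.map f₂.op.toLoc).toFunctor.obj M₂)
    {Y' : C} (g : Y' ⟶ Y) (a : Y' ⟶ X₁) (b : Y' ⟶ X₂) (ha : g ≫ f₁ = a) (hb : g ≫ f₂ = b)
    (χ : (F.map a.op.toLoc).toFunctor.obj M₁ ⟶ (F.map b.op.toLoc).toFunctor.obj M₂)
    (h : (F.map g.op.toLoc).toFunctor.map φ =
      (F.mapComp' f₁.op.toLoc g.op.toLoc a.op.toLoc (by rw [← Quiver.Hom.comp_toLoc, ← op_comp, ha])).inv.toNatTrans.app M₁ ≫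
        χ ≫ (F.mapComp' f₂.op.toLoc g.op.toLoc b.op.toLoc (by rw [← Quiver.Hom.comp_toLoc, ← op_comp, hb])).hom.toNatTrans.app M₂) :
    pullHom φ g a b ha hb = χ := by
  rw [pullHom, h]
  simp [← Cat.Hom₂.comp_app, ← reassoc_of% Cat.Hom₂.comp_app]

end PullHom

section Conj

variable {X U : C} {L : F.obj (.mk (op X))} {E : F.obj (.mk (op U))} {σ : U ⟶ X}
  (r : (F.map σ.op.toLoc).toFunctor.obj L ≅ (F.map (𝟙 U).op.toLoc).toFunctor.obj E)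

/-- transport of a comparison map along a normalisation -/
def cj {Z : C} (a b : Z ⟶ U) (ψ : (F.map a.op.toLoc).toFunctor.obj E ⟶ (F.map b.op.toLoc).toFunctor.obj E)
    (a' b' : Z ⟶ X) (ha : a ≫ σ = a') (hb : b ≫ σ = b') :
    (F.map a'.op.toLoc).toFunctor.obj L ⟶ (F.map b'.op.toLoc).toFunctor.obj L :=
  pullHom r.hom a a' a ha (Category.comp_id a) ≫ ψ ≫ pullHom r.inv b b b' (Category.comp_id b) hb

theorem cj_comp {Z : C} (a b c : Z ⟶ U)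
    (ψ : (F.map a.op.toLoc).toFunctor.obj E ⟶ (F.map b.op.toLoc).toFunctor.obj E)
    (ψ' : (F.map b.op.toLoc).toFunctor.obj E ⟶ (F.map c.op.toLoc).toFunctor.obj E)
    (a' b' c' : Z ⟶ X) (ha : a ≫ σ = a') (hb : b ≫ σ = b') (hc : c ≫ σ = c') :
    cj r a b ψ a' b' ha hb ≫ cj r b c ψ' b' c' hb hc = cj r a c (ψ ≫ ψ') a' c' ha hc := by
  simp only [cj, Category.assoc]
  rw [reassoc_of% (pullHom_comp r.inv r.hom b b b' b (Category.comp_id b) hb (Category.comp_id b)),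
    Iso.inv_hom_id, pullHom_id', Category.id_comp]

theorem pullHom_cj {Z Z' : C} (a b : Z ⟶ U)
    (ψ : (F.map a.op.toLoc).toFunctor.obj E ⟶ (F.map b.op.toLoc).toFunctor.obj E)
    (a' b' : Z ⟶ X) (ha : a ≫ σ = a') (hb : b ≫ σ = b') (g : Z' ⟶ Z) (ga gb : Z' ⟶ U) (ga' gb' : Z' ⟶ X)
    (hga : g ≫ a = ga) (hgb : g ≫ b = gb) (hga' : g ≫ a' = ga') (hgb' : g ≫ b' = gb') :
    pullHom (cj r a b ψ a' b' ha hb) g ga' gb' hga' hgb' =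
      cj r ga gb (pullHom ψ g ga gb hga hgb) ga' gb' (by rw [← hga, Category.assoc, ha, hga'])
        (by rw [← hgb, Category.assoc, hb, hgb']) := by
  simp only [cj]
  rw [← pullHom_comp (pullHom r.hom a a' a ha (Category.comp_id a))
      (ψ ≫ pullHom r.inv b b b' (Category.comp_id b) hb) g ga' ga gb' hga' hga hgb',
    ← pullHom_comp ψ (pullHom r.inv b b b' (Category.comp_id b) hb) g ga gb gb' hga hgb hgb',
    pullHom_pullHom'', pullHom_pullHom'']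
  subst hga hgb
  rfl

end Conj

variable {X X' T U : C} {p : X' ⟶ X} {u : U ⟶ T}
  (sq : ChosenPullback p p) (sq₃ : ChosenPullback₃ sq sq sq)
  (squ : ChosenPullback u u) (squ₃ : ChosenPullback₃ squ squ squ)

/-- An isomorphism of the two inverse images of `L` normalised along a section extends to a descent datum,
provided comparison maps on the triple product are determined by their restriction along the section. -/
theorem exists_descentData (L : F.obj (.mk (op X'))) (E : F.DescentData (fun _ : PUnit.{w + 1} => u)) (σ' : U ⟶ X')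
    (r : (F.map σ'.op.toLoc).toFunctor.obj L ≅ (F.map (𝟙 U).op.toLoc).toFunctor.obj (E.obj ⟨⟩))
    (φ : (F.map sq.p₁.op.toLoc).toFunctor.obj L ≅ (F.map sq.p₂.op.toLoc).toFunctor.obj L)
    (s : squ.pullback ⟶ sq.pullback) (hs₁ : s ≫ sq.p₁ = squ.p₁ ≫ σ') (hs₂ : s ≫ sq.p₂ = squ.p₂ ≫ σ')
    (hφ : pullHom φ.hom s (squ.p₁ ≫ σ') (squ.p₂ ≫ σ') hs₁ hs₂ =
      cj r squ.p₁ squ.p₂ (E.hom squ.p squ.p₁ squ.p₂ squ.hp₁ squ.hp₂) _ _ rfl rfl)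
    (s₃ : squ₃.pullback ⟶ sq₃.pullback) (h₁ : s₃ ≫ sq₃.p₁ = squ₃.p₁ ≫ σ') (h₂ : s₃ ≫ sq₃.p₂ = squ₃.p₂ ≫ σ')
    (h₃ : s₃ ≫ sq₃.p₃ = squ₃.p₃ ≫ σ')
    (hinj : ∀ ψ ψ' : (F.map sq₃.p₁.op.toLoc).toFunctor.obj L ⟶ (F.map sq₃.p₃.op.toLoc).toFunctor.obj L,
      IsIso ψ → IsIso ψ' →
        (F.map s₃.op.toLoc).toFunctor.map ψ = (F.map s₃.op.toLoc).toFunctor.map ψ' → ψ = ψ') :
    ∃ D : F.DescentData (fun _ : PUnit.{w + 1} => p), Nonempty (D.obj ⟨⟩ ≅ L) := by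
  let hom : ∀ _i _j : PUnit.{w + 1}, (F.map sq.p₁.op.toLoc).toFunctor.obj L ⟶ (F.map sq.p₂.op.toLoc).toFunctor.obj L :=
    fun _ _ => φ.hom
  -- the restrictions along the section
  have key : ∀ (g : sq₃.pullback ⟶ sq.pullback) (g' : squ₃.pullback ⟶ squ.pullback)
      (a b : sq₃.pullback ⟶ X') (ha : g ≫ sq.p₁ = a) (hb : g ≫ sq.p₂ = b) (a' b' : squ₃.pullback ⟶ U)
      (ha' : g' ≫ squ.p₁ = a') (hb' : g' ≫ squ.p₂ = b') (e : s₃ ≫ g = g' ≫ s)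
      (e₁ : s₃ ≫ a = a' ≫ σ') (e₂ : s₃ ≫ b = b' ≫ σ') (q : squ₃.pullback ⟶ T) (hq : g' ≫ squ.p = q)
      (q₁ : a' ≫ u = q) (q₂ : b' ≫ u = q),
      pullHom (pullHom φ.hom g a b ha hb) s₃ (a' ≫ σ') (b' ≫ σ') e₁ e₂ =
        cj r a' b' (E.hom q a' b' q₁ q₂) _ _ rfl rfl := by
    intro g g' a b ha hb a' b' ha' hb' e e₁ e₂ q hq q₁ q₂
    rw [pullHom_pullHom'' φ.hom g s₃]
    simp only [e]
    rw [← pullHom_pullHom'' φ.hom s g' (squ.p₁ ≫ σ') (squ.p₂ ≫ σ') (a' ≫ σ') (b' ≫ σ') hs₁ hs₂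
        (by rw [← Category.assoc, ha']) (by rw [← Category.assoc, hb']), hφ,
      pullHom_cj r squ.p₁ squ.p₂ _ _ _ rfl rfl g' a' b' _ _ ha' hb',
      E.pullHom_hom g' squ.p q hq squ.p₁ squ.p₂ squ.hp₁ squ.hp₂ a' b' ha' hb']
  have hcomp : DescentData'.pullHom' (F := F) (sq := fun _ _ => sq) hom sq₃.p (i₁ := ⟨⟩) (i₂ := ⟨⟩) sq₃.p₁ sq₃.p₂ ≫
      DescentData'.pullHom' (F := F) (sq := fun _ _ => sq) hom sq₃.p (i₁ := ⟨⟩) (i₂ := ⟨⟩) sq₃.p₂ sq₃.p₃ =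
      DescentData'.pullHom' (F := F) (sq := fun _ _ => sq) hom sq₃.p (i₁ := ⟨⟩) (i₂ := ⟨⟩) sq₃.p₁ sq₃.p₃ := by
    rw [DescentData'.pullHom'_eq_pullHom (sq := fun _ _ => sq) hom sq₃.p (i₁ := ⟨⟩) (i₂ := ⟨⟩) sq₃.p₁ sq₃.p₂ sq₃.p₁₂,
      DescentData'.pullHom'_eq_pullHom (sq := fun _ _ => sq) hom sq₃.p (i₁ := ⟨⟩) (i₂ := ⟨⟩) sq₃.p₂ sq₃.p₃ sq₃.p₂₃,
      DescentData'.pullHom'_eq_pullHom (sq := fun _ _ => sq) hom sq₃.p (i₁ := ⟨⟩) (i₂ := ⟨⟩) sq₃.p₁ sq₃.p₃ sq₃.p₁₃]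
    haveI := isIso_pullHom φ.hom sq₃.p₁₂ sq₃.p₁ sq₃.p₂ (by simp) (by simp)
    haveI := isIso_pullHom φ.hom sq₃.p₂₃ sq₃.p₂ sq₃.p₃ (by simp) (by simp)
    haveI := isIso_pullHom φ.hom sq₃.p₁₃ sq₃.p₁ sq₃.p₃ (by simp) (by simp)
    refine hinj _ _ inferInstance inferInstance
      (map_eq_map_of_pullHom_eq _ _ s₃ (squ₃.p₁ ≫ σ') (squ₃.p₃ ≫ σ') h₁ h₃ ?_)
    rw [← pullHom_comp _ _ s₃ (squ₃.p₁ ≫ σ') (squ₃.p₂ ≫ σ') (squ₃.p₃ ≫ σ') h₁ h₂ h₃,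
      key sq₃.p₁₂ squ₃.p₁₂ _ _ (by simp) (by simp) _ _ (by simp) (by simp)
        (sq.hom_ext (by simp [h₁, hs₁]) (by simp [h₂, hs₂])) h₁ h₂ squ₃.p (by simp) (by simp) (by simp),
      key sq₃.p₂₃ squ₃.p₂₃ _ _ (by simp) (by simp) _ _ (by simp) (by simp)
        (sq.hom_ext (by simp [h₂, hs₁]) (by simp [h₃, hs₂])) h₂ h₃ squ₃.p (by simp) (by simp) (by simp),
      key sq₃.p₁₃ squ₃.p₁₃ _ _ (by simp) (by simp) _ _ (by simp) (by simp)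
        (sq.hom_ext (by simp [h₁, hs₁]) (by simp [h₃, hs₂])) h₁ h₃ squ₃.p (by simp) (by simp) (by simp),
      cj_comp, E.hom_comp]
  have hself : DescentData'.pullHom' (F := F) (sq := fun _ _ => sq) hom p (i₁ := ⟨⟩) (i₂ := ⟨⟩) (𝟙 X') (𝟙 X') = 𝟙 _ := by
    obtain ⟨d, hd₁, hd₂⟩ := sq.isPullback.exists_lift (𝟙 X') (𝟙 X') rfl
    rw [DescentData'.pullHom'_eq_pullHom (sq := fun _ _ => sq) hom p (i₁ := ⟨⟩) (i₂ := ⟨⟩) (𝟙 X') (𝟙 X') d]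
    haveI := isIso_pullHom φ.hom d (𝟙 X') (𝟙 X') hd₁ hd₂
    have h := DescentData'.comp_pullHom'' (F := F) (sq := fun _ _ => sq) (sq₃ := fun _ _ _ => sq₃) hom
      (fun _ _ _ => hcomp) p (i₁ := ⟨⟩) (i₂ := ⟨⟩) (i₃ := ⟨⟩) (𝟙 X') (𝟙 X') (𝟙 X') (by simp) (by simp) (by simp)
    rw [DescentData'.pullHom'_eq_pullHom (sq := fun _ _ => sq) hom p (i₁ := ⟨⟩) (i₂ := ⟨⟩) (𝟙 X') (𝟙 X') d] at h
    exact (cancel_epi _).mp (h.trans (Category.comp_id _).symm)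
  let D' : F.DescentData' (fun _ _ : PUnit.{w + 1} => sq) (fun _ _ _ => sq₃) :=
    { obj := fun _ => L
      hom := hom
      pullHom'_hom_self := fun _ => hself
      pullHom'_hom_comp := fun _ _ _ => hcomp }
  exact ⟨D'.descentData, ⟨Iso.refl _⟩⟩

omit sq₃ squ₃ in
/-- A comparison of inverse images which comes from downstairs along a section is compatible with descent,
provided comparison maps on the double product are determined by their restriction along the section. -/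
theorem pullHom_eq_of_rigid {M M' : F.obj (.mk (op X))}
    (ψ : (F.map p.op.toLoc).toFunctor.obj M ⟶ (F.map p.op.toLoc).toFunctor.obj M')
    (σ : T ⟶ X) (σ' : U ⟶ X') (hσ : σ' ≫ p = u ≫ σ)
    (α : (F.map σ.op.toLoc).toFunctor.obj M ⟶ (F.map σ.op.toLoc).toFunctor.obj M')
    (hψ : pullHom ψ σ' (u ≫ σ) (u ≫ σ) hσ hσ = pullHom α u (u ≫ σ) (u ≫ σ) rfl rfl)
    (s : squ.pullback ⟶ sq.pullback) (hs₁ : s ≫ sq.p₁ = squ.p₁ ≫ σ') (hs₂ : s ≫ sq.p₂ = squ.p₂ ≫ σ')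
    (hinj : ∀ χ χ' : (F.map sq.p.op.toLoc).toFunctor.obj M ⟶ (F.map sq.p.op.toLoc).toFunctor.obj M',
      IsIso χ → IsIso χ' → (F.map s.op.toLoc).toFunctor.map χ = (F.map s.op.toLoc).toFunctor.map χ' → χ = χ')
    [IsIso ψ] :
    pullHom ψ sq.p₁ sq.p sq.p sq.hp₁ sq.hp₁ = pullHom ψ sq.p₂ sq.p sq.p sq.hp₂ sq.hp₂ := by
  have e₁ : squ.p₁ ≫ u ≫ σ = squ.p ≫ σ := by rw [← Category.assoc, squ.hp₁]
  have e₂ : squ.p₂ ≫ u ≫ σ = squ.p ≫ σ := by rw [← Category.assoc, squ.hp₂]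
  have es : s ≫ sq.p = squ.p ≫ σ := by rw [← sq.hp₁, reassoc_of% hs₁, hσ, e₁]
  haveI := isIso_pullHom ψ sq.p₁ sq.p sq.p sq.hp₁ sq.hp₁
  haveI := isIso_pullHom ψ sq.p₂ sq.p sq.p sq.hp₂ sq.hp₂
  refine hinj _ _ inferInstance inferInstance
    (map_eq_map_of_pullHom_eq _ _ s (squ.p ≫ σ) (squ.p ≫ σ) es es ?_)
  rw [pullHom_pullHom'', pullHom_pullHom'']
  simp only [hs₁, hs₂]
  rw [← pullHom_pullHom'' ψ σ' squ.p₁ _ _ (squ.p ≫ σ) (squ.p ≫ σ) hσ hσ e₁ e₁,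
    ← pullHom_pullHom'' ψ σ' squ.p₂ _ _ (squ.p ≫ σ) (squ.p ≫ σ) hσ hσ e₂ e₂, hψ,
    pullHom_pullHom'', pullHom_pullHom'']
  simp only [squ.hp₁, squ.hp₂]

omit sq₃ squ₃ squ u T U in
/-- A compatible comparison of inverse images is a morphism of the canonical descent data. -/
theorem exists_hom_ofObj {M M' : F.obj (.mk (op X))}
    (ψ : (F.map p.op.toLoc).toFunctor.obj M ⟶ (F.map p.op.toLoc).toFunctor.obj M')
    (h : pullHom ψ sq.p₁ sq.p sq.p sq.hp₁ sq.hp₁ = pullHom ψ sq.p₂ sq.p sq.p sq.hp₂ sq.hp₂) :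
    ∃ Φ : (F.toDescentData (fun _ : PUnit.{w + 1} => p)).obj M ⟶
      (F.toDescentData (fun _ : PUnit.{w + 1} => p)).obj M', Φ.hom ⟨⟩ = ψ := by
  refine ⟨{ hom := fun _ => ψ, comm := fun Y q i₁ i₂ f₁ f₂ hf₁ hf₂ => ?_ }, rfl⟩
  obtain ⟨l, hl₁, hl₂⟩ := sq.isPullback.exists_lift f₁ f₂ (hf₁.trans hf₂.symm)
  have hl : l ≫ sq.p = q := by rw [← sq.hp₁, reassoc_of% hl₁, hf₁]
  have h' := congrArg (fun χ => pullHom χ l q q hl hl) h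
  rw [pullHom_pullHom'', pullHom_pullHom''] at h'
  simp only [hl₁, hl₂] at h'
  dsimp only [Pseudofunctor.toDescentData, Pseudofunctor.DescentData.ofObj]
  erw [map_eq_pullHom ψ f₁ q q hf₁ hf₁, map_eq_pullHom ψ f₂ q q hf₂ hf₂, h']
  simp only [Category.assoc, ← Cat.Hom₂.comp_app, ← reassoc_of% Cat.Hom₂.comp_app]
  simp only [Iso.hom_inv_id_assoc, Iso.hom_inv_id, Category.comp_id]

end Groth.Agent.RigDesc25
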